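import Groth.Prelude.Def_RelProj3
import Groth.Agent.Proj16.AwayZero
import Groth.Agent.ProjX.TwistComap
import Groth.Agent.GrModX.Sections

/-!
# Modules `M(n)~` under inverting an element of degree zero
-/

set_option linter.style.haveILetI false
set_option linter.unusedSectionVars false
set_option backward.isDefEq.respectTransparency false
set_option backward.isDefEq.respectTransparency.types false

noncomputable section

universe u

open CategoryTheory AlgebraicGeometry TopologicalSpace Opposite HomogeneousLocalization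
open scoped HomogeneousIdeal

namespace Groth.Agent.RelTildeX

variable {A σ : Type u} [CommRing A] [SetLike σ A] [AddSubgroupClass σ A] {𝒜 : ℕ → σ} [GradedRing 𝒜]
  {B σ' : Type u} [CommRing B] [SetLike σ' B] [AddSubgroupClass σ' B] {ℬ : ℕ → σ'} [GradedRing ℬ]
  {M τ : Type u} [AddCommGroup M] [Module A M] [SetLike τ M] [AddSubgroupClass τ M] {ℳ : ℕ → τ}
  [SetLike.GradedSMul 𝒜 ℳ]
  {N τ' : Type u} [AddCommGroup N] [Module B N] [SetLike τ' N] [AddSubgroupClass τ' N] {𝒩 : ℕ → τ'}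
  [SetLike.GradedSMul ℬ 𝒩]

/-- `v` exhibits `N` as `M` with the degree zero element `c` inverted. -/
structure InvertsZeroMod (φ : 𝒜 →+*ᵍ ℬ) (c : 𝒜 0) (ℳ : ℕ → τ) (𝒩 : ℕ → τ') (v : M →ₛₗ[φ.toRingHom] N) :
    Prop where
  surj : ∀ (i : ℕ), ∀ b ∈ 𝒩 i, ∃ (k : ℕ), ∃ m ∈ ℳ i, φ (c : A) ^ k • b = v m
  exists_of_eq_zero : ∀ m, v m = 0 → ∃ k : ℕ, (c : A) ^ k • m = 0

variable {φ : 𝒜 →+*ᵍ ℬ} {c : 𝒜 0} (hc : Proj16.InvertsZero φ c) (hφ : ℬ₊ ≤ (𝒜₊).map φ)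
  {v : M →ₛₗ[φ.toRingHom] N} (hv : ∀ (i : ℕ) (m : M), m ∈ ℳ i → v m ∈ 𝒩 i)
  (hm : InvertsZeroMod φ c ℳ 𝒩 v)

omit [SetLike.GradedSMul 𝒜 ℳ] [SetLike.GradedSMul ℬ 𝒩] in
lemma map_smul' (v : M →ₛₗ[φ.toRingHom] N) (a : A) (m : M) : v (a • m) = φ a • v m :=
  map_smulₛₗ v a m

include hc hm

omit [SetLike.GradedSMul 𝒜 ℳ] [SetLike.GradedSMul ℬ 𝒩] in
lemma locModMap_injective (y : ProjectiveSpectrum ℬ) : Function.Injective (GrMod.locModMap φ hφ v y) := by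
  refine (injective_iff_map_eq_zero _).2 fun q hq => ?_
  induction q using LocalizedModule.induction_on with
  | h m s =>
    rw [GrMod.locModMap_mk, ← LocalizedModule.zero_mk 1, LocalizedModule.mk_eq] at hq
    obtain ⟨⟨t, ht⟩, htm⟩ := hq
    simp only [Submonoid.smul_def, smul_zero, one_smul, OneMemClass.coe_one] at htm
    obtain ⟨k, t', ht'⟩ := ProjX.exists_surj hc t
    have h0 : v (t' • m) = 0 := by
      rw [map_smul', ← ht', mul_comm, mul_smul, htm, smul_zero]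
    obtain ⟨l, hl⟩ := hm.exists_of_eq_zero _ h0
    rw [← LocalizedModule.zero_mk 1, LocalizedModule.mk_eq]
    refine ⟨⟨(c : A) ^ l * t', fun h => ?_⟩, ?_⟩
    · have h1 : φ ((c : A) ^ l * t') ∈ y.asHomogeneousIdeal := h
      rw [map_mul, map_pow, ← ht'] at h1
      rcases y.isPrime.mem_or_mem h1 with h2 | h2
      · exact ProjX.notMem_c hc y (y.isPrime.mem_of_pow_mem _ h2)
      · rcases y.isPrime.mem_or_mem h2 with h3 | h3
        · exact ht h3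
        · exact ProjX.notMem_c hc y (y.isPrime.mem_of_pow_mem _ h3)
    · simp only [Submonoid.smul_def, smul_zero, one_smul, OneMemClass.coe_one, mul_smul]
      exact hl

theorem comapMod_app_bijective (n : ℤ) (U : (Proj 𝒜).Opens) (hU : (U : Set (Proj 𝒜)) ⊆ Set.range (Proj.map φ hφ)) :
    Function.Bijective ((GrMod.comap φ hφ v hv n).app U) := by
  classical
  haveI := hc.isOpenImmersion_map hφ
  refine ⟨fun s s' h => GrModX.ext_val 𝒜 ℳ fun x => ?_, fun f => ?_⟩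
  · obtain ⟨y, hy⟩ := hU x.2
    obtain ⟨x, hx⟩ := x
    change Proj.map φ hφ y = x at hy
    subst hy
    refine locModMap_injective hc hφ hm y ?_
    exact congrArg (fun q : Γ(GrMod.tilde ℬ 𝒩 n, Proj.map φ hφ ⁻¹ᵁ U) => GrMod.val q ⟨y, hx⟩) h
  have hinj : Function.Injective (ProjectiveSpectrum.comap φ hφ) := (Proj.map φ hφ).isOpenEmbedding.injective
  have key : ∀ x : U, ∃ (W : Opens (ProjectiveSpectrum.top 𝒜)) (_ : x.1 ∈ W) (hW : W ≤ U) (i j : ℕ)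
      (a : ℳ i) (s : 𝒜 j) (nin : ∀ z : W, (s : A) ∉ z.1.asHomogeneousIdeal),
      ((i : ℤ) = j + n ∨ (a : M) = 0) ∧ ∀ (y : ProjectiveSpectrum ℬ) (hy : ProjectiveSpectrum.comap φ hφ y ∈ W),
        GrMod.val f ⟨y, hW hy⟩ =
          GrMod.locModMap φ hφ v y (LocalizedModule.mk (a : M) ⟨(s : A), nin ⟨_, hy⟩⟩) := by
    rintro ⟨x, hx⟩
    obtain ⟨y, hy⟩ := hU hx
    subst hy
    obtain ⟨W, hyW, iW, i, j, ⟨b, hb⟩, ⟨t, ht⟩, nin, hdeg, hw⟩ := f.2 ⟨y, hx⟩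
    obtain ⟨k, a, ha, hka⟩ := hm.surj i b hb
    obtain ⟨l, s, hs, hls⟩ := hc.surj j t ht
    have hmemA : ∀ {d : ℕ} {w : A} (_ : w ∈ 𝒜 d) (m : ℕ), (c : A) ^ m * w ∈ 𝒜 d := fun hw m => by
      simpa using SetLike.mul_mem_graded (SetLike.pow_mem_graded m c.2) hw
    have hmemM : ∀ {d : ℕ} {w : M} (_ : w ∈ ℳ d) (m : ℕ), (c : A) ^ m • w ∈ ℳ d := fun hw m => by
      simpa using SetLike.GradedSMul.smul_mem (SetLike.pow_mem_graded m c.2) hw
    have hW : Proj.map φ hφ ''ᵁ W ≤ U := by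
      rintro _ ⟨z, hz, rfl⟩
      exact iW.le hz
    obtain ⟨m, hm0⟩ : ∃ m : ℕ, (i : ℤ) = j + n ∨ (c : A) ^ (m + l) • a = 0 := by
      rcases hdeg with h | h
      · exact ⟨0, Or.inl h⟩
      · have hb0 : b = 0 := h
        obtain ⟨m, hm'⟩ := hm.exists_of_eq_zero a (by rw [← hka, hb0, smul_zero])
        exact ⟨m, Or.inr (by rw [add_comm m l, pow_add, mul_smul, hm', smul_zero])⟩
    have nin'' : ∀ z : (Proj.map φ hφ ''ᵁ W : (Proj 𝒜).Opens),
        (c : A) ^ (m + k) * s ∉ (z.1 : ProjectiveSpectrum 𝒜).asHomogeneousIdeal := by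
      rintro ⟨z, w, hw', rfl⟩ h
      have h1 : φ ((c : A) ^ (m + k) * s) ∈ w.asHomogeneousIdeal := h
      rw [map_mul, map_pow, ← hls] at h1
      rcases w.isPrime.mem_or_mem h1 with h2 | h2
      · exact ProjX.notMem_c hc w (w.isPrime.mem_of_pow_mem _ h2)
      · rcases w.isPrime.mem_or_mem h2 with h3 | h3
        · exact nin ⟨w, hw'⟩ h3
        · exact ProjX.notMem_c hc w (w.isPrime.mem_of_pow_mem _ h3)
    refine ⟨Proj.map φ hφ ''ᵁ W, ⟨y, hyW, rfl⟩, hW, i, j, ⟨_, hmemM ha (m + l)⟩, ⟨_, hmemA hs (m + k)⟩, nin'', hm0,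
      fun w hwW => ?_⟩
    obtain ⟨w', hw'W, hw'⟩ := hwW
    obtain rfl : w' = w := hinj hw'
    refine (hw ⟨w', hw'W⟩).trans ?_
    rw [GrMod.locModMap_mk, LocalizedModule.mk_eq]
    refine ⟨1, ?_⟩
    simp only [one_smul, Submonoid.smul_def, map_smul', map_mul, map_pow, ← hka, ← hls, smul_smul]
    congr 1
    ring
  choose W hxW hW i j a s nin hij hw using key
  have hmem : ∀ (x : U), LocalizedModule.mk (a x : M) ⟨(s x : A), nin x ⟨x.1, hxW x⟩⟩ ∈ GrMod.tildeAt 𝒜 ℳ n x.1 :=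
    fun x => by
    rcases hij x with h | h
    · exact Submodule.subset_span ⟨i x, j x, a x, s x, _, h, rfl⟩
    · rw [h, LocalizedModule.zero_mk]
      exact zero_mem _
  let g : ∀ x : U, GrMod.tildeAt 𝒜 ℳ n x.1 := fun x => ⟨_, hmem x⟩
  have hg : ∀ (y : ProjectiveSpectrum ℬ) (hy : ProjectiveSpectrum.comap φ hφ y ∈ U),
      GrMod.locModMap φ hφ v y (g ⟨_, hy⟩).1 = GrMod.val f ⟨y, hy⟩ := fun y hy =>
    (hw ⟨_, hy⟩ y (hxW ⟨_, hy⟩)).symm
  refine ⟨⟨g, fun x => ⟨W x, hxW x, homOfLE (hW x), i x, j x, a x, ⟨(s x : A), (s x).2⟩, nin x, hij x, ?_⟩⟩, ?_⟩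
  · rintro ⟨z, hz⟩
    obtain ⟨w, hw'⟩ := hU (hW x hz)
    subst hw'
    exact locModMap_injective hc hφ hm w ((hg w (hW x hz)).trans (hw x w hz))
  · exact GrModX.ext_val ℬ 𝒩 fun y => hg y.1 y.2

end Groth.Agent.RelTildeX
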