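import Groth.Agent.RelTildeX.ComapLoc
import Groth.Agent.RelTildeX.Twist
import Groth.Agent.ProjX.RelTwist

/-!
# Existence of the module attached to a graded module on a relative `Proj`
-/

set_option linter.style.haveILetI false
set_option linter.unusedSectionVars false
set_option backward.isDefEq.respectTransparency false
set_option backward.isDefEq.respectTransparency.types false

noncomputable section

universe u

open CategoryTheory CategoryTheory.Limits AlgebraicGeometry TopologicalSpace Opposite Groth.Agent.QCoh Groth.Agent.ProjX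
open scoped HomogeneousIdeal

namespace Groth.Agent.RelTildeX

variable {Y P : Scheme.{u}} {𝒮 : RelProj.QCGrAlg Y} {p : P ⟶ Y}
  {chart : ∀ (U : Y.Opens) (hU : IsAffineOpen U), (((p ⁻¹ᵁ U : P.Opens) : Scheme.{u}) ≅ Proj (𝒮.deg U hU))}
  (ℳ : RelProj.GrModule 𝒮)

/-- The restriction of a graded module along an arrow of the affine Zariski site. -/
abbrev mresLE {a b : Y.AffineZariskiSite} (h : b ≤ a) :
    ℳ.mod.val.obj (op a.1) →ₛₗ[(resLE 𝒮 h).toRingHom] ℳ.mod.val.obj (op b.1) :=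
  ℳ.res a.2 b.2 (Scheme.AffineZariskiSite.toOpens_mono h)

theorem exists_invertsZeroMod (hℳ : Coh.IsQCoh ((AMod.toOS 𝒮.toQCAlg).obj ℳ.mod))
    {a b : Y.AffineZariskiSite} (h : b ≤ a) :
    ∃ c, Proj16.InvertsZero (resLE 𝒮 h) c ∧
      InvertsZeroMod (resLE 𝒮 h) c (ℳ.deg a.1 a.2) (ℳ.deg b.1 b.2) (mresLE ℳ h) := by
  classical
  obtain ⟨U, hU⟩ := a
  obtain ⟨b, hb⟩ := b
  obtain ⟨r, hr⟩ := h
  change Y.basicOpen r = b at hr
  subst hr
  letI := (𝒮.presheaf.map (homOfLE (Y.basicOpen_le r)).op).hom.toAlgebra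
  haveI : IsLocalization.Away ((𝒮.str.app (op U)).hom r) (𝒮.presheaf.obj (op (Y.basicOpen r))) :=
    𝒮.isQC U hU r
  have hres : ∀ q : ℕ, resLE 𝒮 (a := ⟨U, hU⟩) (b := ⟨Y.basicOpen r, hb⟩) ⟨r, rfl⟩
        ((𝒮.str.app (op U)).hom r ^ q) =
      (𝒮.str.app (op (Y.basicOpen r))).hom (Y.presheaf.map (homOfLE (Y.basicOpen_le r)).op r ^ q) := fun q => by
    rw [map_pow, map_pow]
    exact congrArg (· ^ q) (ConcreteCategory.congr_hom (𝒮.str.naturality (homOfLE (Y.basicOpen_le r)).op) r).symm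
  refine ⟨⟨_, 𝒮.str_mem U hU r⟩, Proj16.InvertsZero.of_isLocalization
    (resLE 𝒮 (a := ⟨U, hU⟩) (b := ⟨Y.basicOpen r, hb⟩) ⟨r, rfl⟩) ⟨_, 𝒮.str_mem U hU r⟩ fun _ => rfl,
    ⟨fun i z hz => ?_, fun m hm => ?_⟩⟩
  · obtain ⟨q, z₀, hz₀⟩ := exists_pow_smul_eq_map hℳ hU r
      (show Γ((AMod.toOS 𝒮.toQCAlg).obj ℳ.mod, Y.basicOpen r) from z)
    refine ⟨q, _, SetLike.coe_mem (DirectSum.decompose (ℳ.deg U hU) z₀ i), ?_⟩
    rw [← map_pow, hres q]
    let w : 𝒮.presheaf.obj (op (Y.basicOpen r)) :=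
      (𝒮.str.app (op (Y.basicOpen r))).hom (Y.presheaf.map (homOfLE (Y.basicOpen_le r)).op r ^ q)
    have hc : w • z = ℳ.res hU hb (Y.basicOpen_le r) z₀ := hz₀.symm
    have hmem : w • z ∈ ℳ.deg (Y.basicOpen r) hb i := by
      have h1 := SetLike.GradedSMul.smul_mem (A := 𝒮.deg (Y.basicOpen r) hb)
        (𝒮.str_mem (Y.basicOpen r) hb (Y.presheaf.map (homOfLE (Y.basicOpen_le r)).op r ^ q)) hz
      rwa [vadd_eq_add, zero_add] at h1
    show w • z = ℳ.res hU hb (Y.basicOpen_le r) _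
    rw [res_decompose ℳ hU hb, ← hc, DirectSum.decompose_of_mem_same _ hmem]
  · obtain ⟨q, hq⟩ := exists_pow_smul_eq_zero hℳ hU r (show Γ((AMod.toOS 𝒮.toQCAlg).obj ℳ.mod, U) from m) hm
    refine ⟨q, ?_⟩
    show (𝒮.str.app (op U)).hom r ^ q • m = 0
    rw [← map_pow]
    exact hq

variable (hP : RelProj.IsRelProj 𝒮 p chart) (n : ℤ)

/-- The comparison of the chart modules along an arrow of the affine Zariski site. -/
def modComap {a b : Y.AffineZariskiSite} (h : b ≤ a) :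
    (Scheme.Modules.pushforward (embA p chart a)).obj (GrMod.tilde (𝒮.deg a.1 a.2) (ℳ.deg a.1 a.2) n) ⟶
      (Scheme.Modules.pushforward (embA p chart b)).obj (GrMod.tilde (𝒮.deg b.1 b.2) (ℳ.deg b.1 b.2) n) :=
  (Scheme.Modules.pushforward (embA p chart a)).map (GrMod.comap (resLE 𝒮 h) (irrelevant_le_resLE h) (mresLE ℳ h)
      (fun i m hm => ℳ.res_mem a.2 b.2 (Scheme.AffineZariskiSite.toOpens_mono h) i m hm) n) ≫
    (Scheme.Modules.pushforwardComp (Proj.map (resLE 𝒮 h) (irrelevant_le_resLE h)) (embA p chart a)).hom.app _ ≫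
    (Scheme.Modules.pushforwardCongr (map_resLE_emb hP h)).hom.app _

lemma val_modComap {a b : Y.AffineZariskiSite} (h : b ≤ a) (W : P.Opens)
    (s : Γ(GrMod.tilde (𝒮.deg a.1 a.2) (ℳ.deg a.1 a.2) n, embA p chart a ⁻¹ᵁ W))
    (y : ProjectiveSpectrum (𝒮.deg b.1 b.2)) (hy : y ∈ embA p chart b ⁻¹ᵁ W) :
    GrMod.val (V := embA p chart b ⁻¹ᵁ W) ((modComap ℳ hP n h).app W s) ⟨y, hy⟩ =
      GrMod.locModMap (resLE 𝒮 h) (irrelevant_le_resLE h) (mresLE ℳ h) y
        (GrMod.val s ⟨_, mem_of_mem hP h hy⟩) := rfl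

lemma modComap_bijective (hℳ : Coh.IsQCoh ((AMod.toOS 𝒮.toQCAlg).obj ℳ.mod))
    {a b : Y.AffineZariskiSite} (h : b ≤ a) (W : P.Opens) (hW : W ≤ p ⁻¹ᵁ b.1) :
    Function.Bijective ((modComap ℳ hP n h).app W) := by
  obtain ⟨c, hc, hm⟩ := exists_invertsZeroMod ℳ hℳ h
  have h1 := comapMod_app_bijective hc (irrelevant_le_resLE h)
    (fun i m hm => ℳ.res_mem a.2 b.2 (Scheme.AffineZariskiSite.toOpens_mono h) i m hm) hm n _ (mem_range_of_mem hP h hW)
  rw [modComap, Scheme.Modules.Hom.comp_app, Scheme.Modules.Hom.comp_app]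
  haveI : IsIso (((Scheme.Modules.pushforward (embA p chart a)).map
      (GrMod.comap (resLE 𝒮 h) (irrelevant_le_resLE h) (mresLE ℳ h)
      (fun i m hm => ℳ.res_mem a.2 b.2 (Scheme.AffineZariskiSite.toOpens_mono h) i m hm) n)).app W) :=
    (ConcreteCategory.isIso_iff_bijective _).2 h1
  exact (ConcreteCategory.isIso_iff_bijective _).1 inferInstance

lemma modComap_refl (a : Y.AffineZariskiSite) : modComap ℳ hP n (le_refl a) = 𝟙 _ := by
  refine Scheme.Modules.hom_ext _ _ fun W => ?_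
  ext s
  refine GrModX.ext_val _ _ fun ⟨y, hy⟩ => ?_
  refine (val_modComap ℳ hP n (le_refl a) W s y hy).trans ?_
  obtain ⟨N, hyN, iN, i, j, u, v, nin, -, hw⟩ := s.2 ⟨y, hy⟩
  have hid : ∀ x, resLE 𝒮 (le_refl a) x = x := fun x => by
    show (𝒮.presheaf.map (homOfLE (le_refl a.1)).op).hom x = x
    rw [show (homOfLE (le_refl a.1)).op = 𝟙 (op a.1) from rfl, CategoryTheory.Functor.map_id]
    rfl
  have hidm : ∀ x, mresLE ℳ (le_refl a) x = x := fun x => by
    show ℳ.mod.val.presheaf.map (homOfLE (le_refl a.1)).op x = x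
    rw [show (homOfLE (le_refl a.1)).op = 𝟙 (op a.1) from rfl, CategoryTheory.Functor.map_id]
    rfl
  have he : ProjectiveSpectrum.comap (resLE 𝒮 (le_refl a)) (irrelevant_le_resLE (le_refl a)) y = y := by
    refine ProjectiveSpectrum.ext (HomogeneousIdeal.ext' fun i x hx => ?_)
    show resLE 𝒮 (le_refl a) x ∈ y.asHomogeneousIdeal ↔ x ∈ y.asHomogeneousIdeal
    rw [hid]
  refine (congrArg (GrMod.locModMap _ _ _ y) (hw ⟨_, he.symm ▸ hyN⟩)).trans ?_
  rw [GrMod.locModMap_mk]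
  refine Eq.trans ?_ (hw ⟨y, hyN⟩).symm
  exact congr_arg₂ LocalizedModule.mk (hidm _) (Subtype.ext (hid _))

lemma modComap_comp {a b c : Y.AffineZariskiSite} (h : b ≤ a) (h' : c ≤ b) :
    modComap ℳ hP n (h'.trans h) = modComap ℳ hP n h ≫ modComap ℳ hP n h' := by
  refine Scheme.Modules.hom_ext _ _ fun W => ?_
  ext s
  refine GrModX.ext_val _ _ fun ⟨y, hy⟩ => ?_
  refine (val_modComap ℳ hP n (h'.trans h) W s y hy).trans ?_
  rw [Scheme.Modules.Hom.comp_app]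
  refine Eq.trans ?_ (val_modComap ℳ hP n h' W ((modComap ℳ hP n h).app W s) y hy).symm
  refine Eq.trans ?_ (congrArg _ (val_modComap ℳ hP n h W s _ (mem_of_mem hP h' hy))).symm
  have hcomp : ∀ x, resLE 𝒮 h' (resLE 𝒮 h x) = resLE 𝒮 (h'.trans h) x := fun x => by
    show (𝒮.presheaf.map _).hom ((𝒮.presheaf.map _).hom x) = (𝒮.presheaf.map _).hom x
    rw [← RingHom.comp_apply, ← CommRingCat.hom_comp, ← Functor.map_comp]
    rfl
  have hcompm : ∀ x, mresLE ℳ h' (mresLE ℳ h x) = mresLE ℳ (h'.trans h) x := fun x => by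
    show ℳ.mod.val.presheaf.map _ (ℳ.mod.val.presheaf.map _ x) = ℳ.mod.val.presheaf.map _ x
    rw [← ConcreteCategory.comp_apply, ← Functor.map_comp]
    rfl
  have he : ProjectiveSpectrum.comap (resLE 𝒮 h) (irrelevant_le_resLE h)
      (ProjectiveSpectrum.comap (resLE 𝒮 h') (irrelevant_le_resLE h') y) =
      ProjectiveSpectrum.comap (resLE 𝒮 (h'.trans h)) (irrelevant_le_resLE (h'.trans h)) y := by
    refine ProjectiveSpectrum.ext (HomogeneousIdeal.ext' fun i x hx => ?_)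
    show resLE 𝒮 h' (resLE 𝒮 h x) ∈ y.asHomogeneousIdeal ↔ resLE 𝒮 (h'.trans h) x ∈ y.asHomogeneousIdeal
    rw [hcomp]
  obtain ⟨N, hyN, iN, i, j, u, v, nin, -, hw⟩ := s.2 ⟨_, mem_of_mem hP (h'.trans h) hy⟩
  refine (congrArg (GrMod.locModMap _ _ _ y) (hw ⟨_, hyN⟩)).trans ?_
  refine Eq.trans ?_ (congrArg (fun q => GrMod.locModMap (resLE 𝒮 h') (irrelevant_le_resLE h') (mresLE ℳ h') y
    (GrMod.locModMap (resLE 𝒮 h) (irrelevant_le_resLE h) (mresLE ℳ h) _ q)) (hw ⟨_, he.symm ▸ hyN⟩)).symm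
  beta_reduce
  simp only [GrMod.locModMap_mk]
  exact congr_arg₂ LocalizedModule.mk (hcompm _).symm (Subtype.ext (hcomp _).symm)

/-- The diagram of chart modules. -/
def modDiagram : Y.AffineZariskiSiteᵒᵖ ⥤ P.Modules where
  obj a := (Scheme.Modules.pushforward (embA p chart a.unop)).obj
    (GrMod.tilde (𝒮.deg a.unop.1 a.unop.2) (ℳ.deg a.unop.1 a.unop.2) n)
  map f := modComap ℳ hP n (leOfHom f.unop)
  map_id a := modComap_refl ℳ hP n a.unop
  map_comp f g := modComap_comp ℳ hP n (leOfHom f.unop) (leOfHom g.unop)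

include hP in
theorem exists_isRelTilde (hℳ : Coh.IsQCoh ((AMod.toOS 𝒮.toQCAlg).obj ℳ.mod)) :
    ∃ (F : P.Modules) (lam : ∀ (U : Y.Opens) (hU : IsAffineOpen U),
      F ⟶ (Scheme.Modules.pushforward (RelProj.emb p chart U hU)).obj (GrMod.tilde (𝒮.deg U hU) (ℳ.deg U hU) n)),
      RelProj.IsRelTilde 𝒮 p chart ℳ n F lam := by
  refine ⟨limit (modDiagram ℳ hP n), fun U hU => limit.π (modDiagram ℳ hP n) (op ⟨U, hU⟩), ⟨fun U hU W hW => ?_,
    fun U hU r W s y hy hy' => ?_⟩⟩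
  · refine limit_bijective (modDiagram ℳ hP n) (fun a => p ⁻¹ᵁ a.1)
      (fun h W hW => modComap_bijective ℳ hP n hℳ h W hW) (fun a W => ?_)
      (fun {a b} h => p.preimage_mono (Scheme.AffineZariskiSite.toOpens_mono h))
      (fun a c x hx => ?_) ⟨U, hU⟩ W hW
    · have he : embA p chart a ⁻¹ᵁ (W ⊓ p ⁻¹ᵁ a.1) = embA p chart a ⁻¹ᵁ W := by
        refine le_antisymm (fun z hz => hz.1) fun z hz => ⟨hz, ?_⟩
        exact (ProjX.opensRange_embA a).le ⟨z, rfl⟩
      show Function.Bijective ((GrMod.tilde (𝒮.deg a.1 a.2) (ℳ.deg a.1 a.2) n).presheaf.map (homOfLE he.le).op)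
      haveI : IsIso (homOfLE he.le).op := by
        rw [show homOfLE he.le = eqToHom he from rfl]
        infer_instance
      exact (ConcreteCategory.isIso_iff_bijective _).1 inferInstance
    · obtain ⟨r, s, e, hxr⟩ := exists_basicOpen_le_affine_inter a.2 c.2 (p.base x) hx
      exact ⟨⟨Y.basicOpen r, a.2.basicOpen r⟩, ⟨r, rfl⟩, ⟨s, e.symm⟩, hxr⟩
  · let a : Y.AffineZariskiSite := ⟨U, hU⟩
    let b : Y.AffineZariskiSite := a.basicOpen r
    have h : b ≤ a := a.basicOpen_le r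
    have hw : limit.π (modDiagram ℳ hP n) (op a) ≫ modComap ℳ hP n h = limit.π (modDiagram ℳ hP n) (op b) :=
      limit.w (modDiagram ℳ hP n) (homOfLE h).op
    show GrMod.val (V := embA p chart b ⁻¹ᵁ W) ((limit.π (modDiagram ℳ hP n) (op b)).app W s) ⟨y, hy⟩ = _
    rw [← hw]
    exact val_modComap ℳ hP n h W _ y hy

end Groth.Agent.RelTildeX
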