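import Groth.Agent.RelTildeX.Glue
import Groth.Agent.ProjX.TwistMul
import Groth.Agent.H23.TensorDesc
import Groth.Agent.FlatTwist.Frame
import Groth.Agent.GrModX.QCohTilde

/-!
`M~(n) = M~ ⊗ O(n)` on a relative `Proj` generated in degree one.
-/

noncomputable section

universe u

open CategoryTheory CategoryTheory.Limits AlgebraicGeometry TopologicalSpace Opposite
open scoped HomogeneousIdeal

set_option backward.isDefEq.respectTransparency false
set_option backward.isDefEq.respectTransparency.types false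
set_option linter.unusedSectionVars false
set_option linter.style.haveILetI false

namespace Groth.Agent.RelTildeX

section ring

variable {A σ : Type u} [CommRing A] [SetLike σ A] [AddSubgroupClass σ A] {𝒜 : ℕ → σ} [GradedRing 𝒜]
variable {M τ : Type u} [AddCommGroup M] [Module A M] [SetLike τ M] [AddSubgroupClass τ M] {ℳ : ℕ → τ}
  [SetLike.GradedSMul 𝒜 ℳ]

lemma smul_mem_tildeAt {a b c : ℤ} (h : a + b = c) (x : ProjectiveSpectrum 𝒜) {q : GrTwist.Loc 𝒜 x}
    (hq : q ∈ GrTwist.twistAt 𝒜 a x) {s : GrMod.LocMod 𝒜 (M := M) x} (hs : s ∈ GrMod.tildeAt 𝒜 ℳ b x) :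
    q • s ∈ GrMod.tildeAt 𝒜 ℳ c x := by
  induction hq using Submodule.span_induction with
  | mem q hq =>
    obtain ⟨i, j, u, w, hw, hij, rfl⟩ := hq
    induction hs using Submodule.span_induction with
    | mem s hs =>
      obtain ⟨i', j', m, t, ht, hij', rfl⟩ := hs
      rw [LocalizedModule.mk_smul_mk]
      exact Submodule.subset_span ⟨i + i', j + j', ⟨(u : A) • (m : M), SetLike.GradedSMul.smul_mem u.2 m.2⟩,
        ⟨(w : A) * (t : A), SetLike.mul_mem_graded w.2 t.2⟩,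
        fun e => (x.isPrime.mem_or_mem e).elim hw ht, by push_cast; omega, rfl⟩
    | zero => rw [smul_zero]; exact zero_mem _
    | add _ _ _ _ h h' => rw [smul_add]; exact add_mem h h'
    | smul r s _ h =>
      rw [GrMod.a0_smul_def, smul_comm, ← GrMod.a0_smul_def]
      exact Submodule.smul_mem _ r h
  | zero => rw [zero_smul]; exact zero_mem _
  | add _ _ _ _ h h' => rw [add_smul]; exact add_mem h h'
  | smul r q _ h =>
    rw [Algebra.smul_def, HomogeneousLocalization.algebraMap_apply, mul_smul, ← GrMod.a0_smul_def]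
    exact Submodule.smul_mem _ r h

/-- The product of a section of `O(a)` and one of `M(b)~`. -/
def prodSect {a b c : ℤ} (h : a + b = c) {V : (Proj 𝒜).Opens} (l : Γ(GrTwist.twist 𝒜 a, V))
    (s : Γ(GrMod.tilde 𝒜 ℳ b, V)) : Γ(GrMod.tilde 𝒜 ℳ c, V) :=
  ⟨fun x => ⟨GrTwist.val l x • GrMod.val s x,
      smul_mem_tildeAt h x.1 ((l : GrTwist.sectN (𝒜 := 𝒜) a (op V)).1 x).2 ((s : GrMod.sect 𝒜 ℳ b (op V)).1 x).2⟩,
    fun x => by
      obtain ⟨W, hxW, iW, i, j, u, w, nw, hdeg, hval⟩ := (l : GrTwist.sectN (𝒜 := 𝒜) a (op V)).2 x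
      obtain ⟨W', hxW', iW', i', j', m, t, nt, hdeg', hval'⟩ := (s : GrMod.sect 𝒜 ℳ b (op V)).2 x
      refine ⟨W ⊓ W', ⟨hxW, hxW'⟩, Opens.infLELeft _ _ ≫ iW, i + i', j + j',
        ⟨(u : A) • (m : M), SetLike.GradedSMul.smul_mem u.2 m.2⟩,
        ⟨(w : A) * (t : A), SetLike.mul_mem_graded w.2 t.2⟩,
        fun y e => (y.1.isPrime.mem_or_mem e).elim (nw ⟨y.1, y.2.1⟩) (nt ⟨y.1, y.2.2⟩), ?_, fun y => ?_⟩
      · rcases hdeg with hd | hd
        · rcases hdeg' with hd' | hd'
          · exact Or.inl (by push_cast; omega)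
          · exact Or.inr (show (u : A) • (m : M) = 0 by rw [hd', smul_zero])
        · exact Or.inr (show (u : A) • (m : M) = 0 by rw [hd, zero_smul])
      · have e1 := hval ⟨y.1, y.2.1⟩
        have e2 := hval' ⟨y.1, y.2.2⟩
        refine (congr_arg₂ (fun (p : GrTwist.Loc 𝒜 y.1) (q : GrMod.LocMod 𝒜 (M := M) y.1) => p • q) e1 e2).trans ?_
        exact LocalizedModule.mk_smul_mk _ _ _ _⟩

lemma val_prodSect {a b c : ℤ} (h : a + b = c) {V : (Proj 𝒜).Opens} (l : Γ(GrTwist.twist 𝒜 a, V))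
    (s : Γ(GrMod.tilde 𝒜 ℳ b, V)) (x : V) :
    GrMod.val (prodSect h l s) x = GrTwist.val l x • GrMod.val s x := rfl

variable {B σ' : Type u} [CommRing B] [SetLike σ' B] [AddSubgroupClass σ' B] {ℬ : ℕ → σ'} [GradedRing ℬ]
  {N τ' : Type u} [AddCommGroup N] [Module B N] [SetLike τ' N] [AddSubgroupClass τ' N]

lemma locModMap_smul (φ : 𝒜 →+*ᵍ ℬ) (hφ : ℬ₊ ≤ (𝒜₊).map φ) (v : M →ₛₗ[φ.toRingHom] N) (y : ProjectiveSpectrum ℬ)
    (q : GrTwist.Loc 𝒜 (ProjectiveSpectrum.comap φ hφ y))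
    (s : GrMod.LocMod 𝒜 (M := M) (ProjectiveSpectrum.comap φ hφ y)) :
    GrMod.locModMap φ hφ v y (q • s) = GrTwist.locMap φ hφ y q • GrMod.locModMap φ hφ v y s := by
  obtain ⟨a, t, rfl⟩ := IsLocalization.exists_mk'_eq (ProjectiveSpectrum.comap φ hφ y).asHomogeneousIdeal.toIdeal.primeCompl q
  induction s using LocalizedModule.induction_on with
  | h m u =>
    rw [← Localization.mk_eq_mk', LocalizedModule.mk_smul_mk, GrMod.locModMap_mk, GrTwist.locMap_mk,
      GrMod.locModMap_mk, LocalizedModule.mk_smul_mk, map_smulₛₗ]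
    exact congrArg _ (Subtype.ext (map_mul φ _ _))

end ring

open ProjX (cval)

variable {Y P : Scheme.{u}} {𝒮 : RelProj.QCGrAlg Y} {p : P ⟶ Y}
  {chart : ∀ (U : Y.Opens) (hU : IsAffineOpen U), (((p ⁻¹ᵁ U : P.Opens) : Scheme.{u}) ≅ Proj (𝒮.deg U hU))}
  {ℳ : RelProj.GrModule 𝒮} {n : ℤ} {F : P.Modules}
  {lam : ∀ (U : Y.Opens) (hU : IsAffineOpen U),
    F ⟶ (Scheme.Modules.pushforward (RelProj.emb p chart U hU)).obj (GrMod.tilde (𝒮.deg U hU) (ℳ.deg U hU) n)}
  (hP : RelProj.IsRelProj 𝒮 p chart) (hF : RelProj.IsRelTilde 𝒮 p chart ℳ n F lam)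

lemma val_tlam_res (W W' : P.Opens) (h : W' ≤ W) (s : Γ(F, W)) (U : Y.Opens) (hU : IsAffineOpen U)
    (y : ProjectiveSpectrum (𝒮.deg U hU)) (hy : y ∈ RelProj.emb p chart U hU ⁻¹ᵁ W') :
    GrMod.val (V := RelProj.emb p chart U hU ⁻¹ᵁ W') ((lam U hU).app W' (AModX.res F h s)) ⟨y, hy⟩ =
      GrMod.val (V := RelProj.emb p chart U hU ⁻¹ᵁ W) ((lam U hU).app W s) ⟨y, h hy⟩ := by
  rw [show (lam U hU).app W' (AModX.res F h s) = _ from (AModX.app_res (lam U hU) h s)]
  rfl

include hP hF in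
theorem existsUnique_sect_tilde (W : P.Opens)
    (t : ∀ (U : Y.Opens) (hU : IsAffineOpen U),
      Γ(GrMod.tilde (𝒮.deg U hU) (ℳ.deg U hU) n, RelProj.emb p chart U hU ⁻¹ᵁ W))
    (hcompat : ∀ (U : Y.Opens) (hU : IsAffineOpen U) (r : Γ(Y, U))
      (y : ProjectiveSpectrum (𝒮.deg (Y.basicOpen r) (hU.basicOpen r)))
      (hy : (RelProj.emb p chart (Y.basicOpen r) (hU.basicOpen r)).base y ∈ W),
      GrMod.val (t (Y.basicOpen r) (hU.basicOpen r)) ⟨y, hy⟩ =
        GrMod.locModMap (𝒮.res hU (hU.basicOpen r) (Y.basicOpen_le r)) (𝒮.irrelevant_le_map U hU r)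
          (ℳ.res hU (hU.basicOpen r) (Y.basicOpen_le r)) y
          (GrMod.val (t U hU) ⟨_, ProjX.mem_comap_of_mem hP hU r hy⟩)) :
    ∃! s : Γ(F, W), ∀ (U : Y.Opens) (hU : IsAffineOpen U), (lam U hU).app W s = t U hU := by
  classical
  let Good : ∀ (W' : P.Opens), W' ≤ W → Γ(F, W') → ∀ (U : Y.Opens), IsAffineOpen U → Prop :=
    fun W' h s U hU => ∀ (y : ProjectiveSpectrum (𝒮.deg U hU)) (hy : y ∈ RelProj.emb p chart U hU ⁻¹ᵁ W'),
      GrMod.val (V := RelProj.emb p chart U hU ⁻¹ᵁ W') ((lam U hU).app W' s) ⟨y, hy⟩ =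
        GrMod.val (t U hU) ⟨y, h hy⟩
  have down : ∀ (W' : P.Opens) (h : W' ≤ W) (s : Γ(F, W')) (U : Y.Opens) (hU : IsAffineOpen U) (r : Γ(Y, U))
      (D : Y.Opens) (hD : IsAffineOpen D), D = Y.basicOpen r → Good W' h s U hU → Good W' h s D hD := by
    intro W' h s U hU r D hD e hg
    subst e
    intro y hy
    refine (hF.compat U hU r W' s y hy (ProjX.mem_comap_of_mem hP hU r hy)).trans ?_
    rw [hg _ (ProjX.mem_comap_of_mem hP hU r hy)]
    exact (hcompat U hU r y (h hy)).symm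
  have all : ∀ (W' : P.Opens) (h : W' ≤ W) (s : Γ(F, W')) (U : Y.Opens) (hU : IsAffineOpen U),
      W' ≤ p ⁻¹ᵁ U → Good W' h s U hU → ∀ V hV, Good W' h s V hV := by
    intro W' h s U hU hW' hg V hV y hy
    have hxV : RelProj.emb p chart V hV y ∈ p ⁻¹ᵁ V := by
      rw [← RelTildeX.opensRange_emb p chart V hV]; exact ⟨y, rfl⟩
    obtain ⟨r, r', e, hxr⟩ := exists_basicOpen_le_affine_inter hU hV (p (RelProj.emb p chart V hV y))
      ⟨hW' hy, hxV⟩
    let W'' := W' ⊓ p ⁻¹ᵁ Y.basicOpen r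
    have h'' : W'' ≤ W := inf_le_left.trans h
    have hD : Good W'' h'' (AModX.res F inf_le_left s) (Y.basicOpen r) (hU.basicOpen r) :=
      down W'' h'' _ U hU r _ _ rfl fun z hz => (val_tlam_res W' W'' inf_le_left s U hU z hz).trans (hg z _)
    obtain ⟨t', ht'⟩ := (hF.bijective V hV W'' (inf_le_right.trans (p.preimage_mono (e ▸ Y.basicOpen_le r')))).2
      ((GrMod.tilde (𝒮.deg V hV) (ℳ.deg V hV) n).presheaf.map
        (homOfLE ((RelProj.emb p chart V hV).preimage_mono h'')).op (t V hV))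
    have hV' : Good W'' h'' t' V hV := fun z hz => by rw [ht']; rfl
    have hD' := down W'' h'' t' V hV r' (Y.basicOpen r) (hU.basicOpen r) e hV'
    have heq : t' = AModX.res F inf_le_left s :=
      (hF.bijective _ (hU.basicOpen r) W'' inf_le_right).1
        (GrModX.ext_val _ _ fun ⟨z, hz⟩ => (hD' z hz).trans (hD z hz).symm)
    rw [heq] at hV'
    exact ((val_tlam_res W' W'' inf_le_left s V hV y ⟨hy, hxr⟩).symm.trans (hV' y ⟨hy, hxr⟩))
  have hloc : ∀ U : Y.affineOpens, ∃ s : Γ(F, W ⊓ p ⁻¹ᵁ U.1), ∀ V hV, Good _ inf_le_left s V hV := fun U => by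
    obtain ⟨s, hs⟩ := (hF.bijective U.1 U.2 (W ⊓ p ⁻¹ᵁ U.1) inf_le_right).2
      ((GrMod.tilde (𝒮.deg U.1 U.2) (ℳ.deg U.1 U.2) n).presheaf.map
        (homOfLE ((RelProj.emb p chart U.1 U.2).preimage_mono inf_le_left)).op (t U.1 U.2))
    exact ⟨s, all _ inf_le_left s U.1 U.2 inf_le_right fun z hz => by rw [hs]; rfl⟩
  choose s hs using hloc
  have hcov : ∀ x : P, ∃ U : Y.affineOpens, x ∈ p ⁻¹ᵁ U.1 := fun x => by
    obtain ⟨_, ⟨U, hU, rfl⟩, hxU, -⟩ := Y.isBasis_affineOpens.exists_subset_of_mem_open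
      (Set.mem_univ (p x)) isOpen_univ
    exact ⟨⟨U, hU⟩, hxU⟩
  have hext : ∀ {W' : P.Opens} (a b : Γ(F, W')) (h : W' ≤ W),
      (∀ V hV, Good W' h a V hV) → (∀ V hV, Good W' h b V hV) → a = b := by
    intro W' a b h ha hb
    refine AModX.eq_of_locally _ _ fun x hx => ?_
    obtain ⟨U, hxU⟩ := hcov x
    refine ⟨W' ⊓ p ⁻¹ᵁ U.1, inf_le_left, ⟨hx, hxU⟩, (hF.bijective U.1 U.2 _ inf_le_right).1
      (GrModX.ext_val _ _ fun ⟨z, hz⟩ => ?_)⟩
    rw [val_tlam_res, val_tlam_res, ha U.1 U.2, hb U.1 U.2]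
  obtain ⟨S, hS, -⟩ := TopCat.Sheaf.existsUnique_gluing' ⟨F.presheaf, F.isSheaf⟩
    (fun U : Y.affineOpens => W ⊓ p ⁻¹ᵁ U.1) W (fun _ => homOfLE inf_le_left)
    (fun x hx => Opens.mem_iSup.2 ((hcov x).imp fun U hU => ⟨hx, hU⟩)) s (fun U V => by
      refine hext (W' := (W ⊓ p ⁻¹ᵁ U.1) ⊓ (W ⊓ p ⁻¹ᵁ V.1)) _ _ (inf_le_left.trans inf_le_left)
        (fun A hA z hz => ?_) fun A hA z hz => ?_
      · exact (val_tlam_res _ _ inf_le_left (s U) A hA z hz).trans (hs U A hA z _)
      · exact (val_tlam_res _ _ inf_le_right (s V) A hA z hz).trans (hs V A hA z _))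
  have hSgood : ∀ V hV, Good W le_rfl S V hV := fun V hV z hz => by
    obtain ⟨U, hU⟩ := hcov (RelProj.emb p chart V hV z)
    refine (val_tlam_res W _ inf_le_left S V hV z ⟨hz, hU⟩).symm.trans ?_
    rw [show AModX.res F inf_le_left S = s U from hS U]
    exact hs U V hV z _
  refine ⟨S, fun U hU => GrModX.ext_val _ _ fun ⟨z, hz⟩ => hSgood U hU z hz, fun S' hS' => ?_⟩
  exact hext S' S le_rfl (fun V hV z hz => by rw [hS' V hV]) hSgood

variable {F' L : P.Modules} {m k : ℤ} (hk : k + n = m)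
  {lam' : ∀ (U : Y.Opens) (hU : IsAffineOpen U),
    F' ⟶ (Scheme.Modules.pushforward (RelProj.emb p chart U hU)).obj (GrMod.tilde (𝒮.deg U hU) (ℳ.deg U hU) m)}
  {lamL : ∀ (U : Y.Opens) (hU : IsAffineOpen U),
    L ⟶ (Scheme.Modules.pushforward (RelProj.emb p chart U hU)).obj (GrTwist.twist (𝒮.deg U hU) k)}
  (hF' : RelProj.IsRelTilde 𝒮 p chart ℳ m F' lam') (hL : RelProj.IsRelTwist 𝒮 p chart k L lamL)

variable (lam lam' lamL) in
/-- `t` is the product of `s` and `l` in every chart. -/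
def IsProd (hk : k + n = m) (W : P.Opens) (s : Γ(F, W)) (l : Γ(L, W)) (t : Γ(F', W)) : Prop :=
  ∀ (U : Y.Opens) (hU : IsAffineOpen U),
    (lam' U hU).app W t = prodSect hk ((lamL U hU).app W l) ((lam U hU).app W s)

include hP hF hF' hL hk in
theorem existsUnique_prod (W : P.Opens) (s : Γ(F, W)) (l : Γ(L, W)) : ∃! t, IsProd lam lam' lamL hk W s l t :=
  existsUnique_sect_tilde hP hF' W _ fun U hU r y hy => by
    have hy' := ProjX.mem_comap_of_mem hP hU r hy
    rw [val_prodSect, val_prodSect, locModMap_smul]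
    exact congr_arg₂ (fun (a : GrTwist.Loc (𝒮.deg (Y.basicOpen r) (hU.basicOpen r)) y) b => a • b)
      (hL.compat U hU r W l y hy hy') (hF.compat U hU r W s y hy hy')

include hP hF hF' hL hk in
theorem nonempty_iso_tensor (hgen : 𝒮.IsGenDegOne) : Nonempty (F' ≅ CohB1.tensorMod F L) := by
  choose T hT hTu using existsUnique_prod hP hF hk hF' hL
  let β : H23.TensorDesc.Bilin F L F' :=
    { b := T
      add_left := fun W a a' l => (hTu W _ l _ fun U hU => GrModX.ext_val _ _ fun y => by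
        have h1 := congrArg (fun z => GrMod.val (V := RelProj.emb p chart U hU ⁻¹ᵁ W) z y) (hT W a l U hU)
        have h2 := congrArg (fun z => GrMod.val (V := RelProj.emb p chart U hU ⁻¹ᵁ W) z y) (hT W a' l U hU)
        simp only [val_prodSect] at h1 h2
        erw [map_add, map_add, val_prodSect]
        show GrMod.val _ _ + GrMod.val _ _ = _ • (GrMod.val _ _ + GrMod.val _ _)
        erw [smul_add, h1, h2]).symm
      smul_left := fun W r a l => (hTu W _ l _ fun U hU => GrModX.ext_val _ _ fun y => by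
        have h1 := congrArg (fun z => GrMod.val (V := RelProj.emb p chart U hU ⁻¹ᵁ W) z y) (hT W a l U hU)
        simp only [val_prodSect] at h1
        rw [val_prodSect, Scheme.Modules.Hom.app_smul, Scheme.Modules.Hom.app_smul]
        erw [GrModX.val_smul, GrModX.val_smul, h1]
        exact smul_comm _ _ _).symm
      add_right := fun W a l l' => (hTu W a _ _ fun U hU => GrModX.ext_val _ _ fun y => by
        have h1 := congrArg (fun z => GrMod.val (V := RelProj.emb p chart U hU ⁻¹ᵁ W) z y) (hT W a l U hU)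
        have h2 := congrArg (fun z => GrMod.val (V := RelProj.emb p chart U hU ⁻¹ᵁ W) z y) (hT W a l' U hU)
        simp only [val_prodSect] at h1 h2
        erw [map_add, map_add, val_prodSect]
        show GrMod.val _ _ + GrMod.val _ _ = (GrTwist.val _ _ + GrTwist.val _ _) • GrMod.val _ _
        erw [add_smul, h1, h2]).symm
      smul_right := fun W r a l => (hTu W a _ _ fun U hU => GrModX.ext_val _ _ fun y => by
        have h1 := congrArg (fun z => GrMod.val (V := RelProj.emb p chart U hU ⁻¹ᵁ W) z y) (hT W a l U hU)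
        simp only [val_prodSect] at h1
        rw [val_prodSect, Scheme.Modules.Hom.app_smul]
        erw [GrModX.val_smul]
        show _ = cval lamL U hU (r • l) y • GrMod.val _ _
        rw [ProjX.cval_smul, mul_smul, h1]
        rfl).symm
      res := fun {W W'} i a l => hTu W' _ _ _ fun U hU => GrModX.ext_val _ _ fun y => by
        refine (val_tlam_res (lam := lam') W W' i (T W a l) U hU y.1 y.2).trans ?_
        rw [hT W a l U hU, val_prodSect, val_prodSect]
        exact congr_arg₂ (fun (p : GrTwist.Loc (𝒮.deg U hU) y.1) q => p • q)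
          (ProjX.val_lam_res (lam := lamL) W W' i l U hU y.1 y.2).symm
          (val_tlam_res (lam := lam) W W' i a U hU y.1 y.2).symm }
  let Φ := H23.TensorDesc.desc β
  haveI : IsIso Φ := by
    refine QCoh.isIso_of_isBasis Φ (B := {W | ∃ (U : Y.Opens) (hU : IsAffineOpen U)
      (f : 𝒮.presheaf.obj (op U)), f ∈ 𝒮.deg U hU 1 ∧
        W ≤ RelProj.emb p chart U hU ''ᵁ Proj.basicOpen (𝒮.deg U hU) f}) ?_ ?_
    · refine Opens.isBasis_iff_nbhd.2 fun {V x} hx => ?_
      obtain ⟨U, hU, y, rfl⟩ := ProjX.exists_chart_point (chart := chart) x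
      obtain ⟨f, hfy⟩ := Opens.mem_iSup.1 ((ProjX.iSup_basicOpen_deg_one hgen U hU _ Ideal.subset_span).ge
        (trivial : y ∈ (⊤ : (Proj (𝒮.deg U hU)).Opens)))
      exact ⟨V ⊓ RelProj.emb p chart U hU ''ᵁ Proj.basicOpen (𝒮.deg U hU) f.1,
        ⟨U, hU, f.1, f.2, inf_le_right⟩, ⟨hx, y, hfy, rfl⟩, inf_le_left⟩
    rintro W ⟨U, hU, f, hf, hW⟩
    let j := RelProj.emb p chart U hU
    let D := Proj.basicOpen (𝒮.deg U hU) f
    let χ := (GrTwistX.powFrac (U := D) hf SetLike.GradedOne.one_mem (zero_add 1).symm k (fun z => z.2)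
      (fun z h => z.1.isPrime.ne_top ((Ideal.eq_top_iff_one _).mpr h))).cast
        (show k * ((1 : ℕ) : ℤ) = k by rw [Nat.cast_one, mul_one])
    obtain ⟨e, he, hev⟩ := ProjX.exists_frame_chart hL U hU χ
    have hWU : W ≤ p ⁻¹ᵁ U := hW.trans ((j.image_le_opensRange _).trans (opensRange_emb p chart U hU).le)
    have hWD : ∀ y : (j ⁻¹ᵁ W : (Proj (𝒮.deg U hU)).Opens), y.1 ∈ D := fun y => (j.preimage_image_eq D).le (hW y.2)
    have key : Function.Bijective fun a : Γ(F, W) => T W a (AModX.res L hW e) := by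
      have hv : ∀ (a : Γ(F, W)) (y : (j ⁻¹ᵁ W : (Proj (𝒮.deg U hU)).Opens)),
          GrMod.val ((lam' U hU).app W (T W a (AModX.res L hW e))) y =
            (Localization.mk χ.num ⟨χ.den, χ.den_ne ⟨y.1, hWD y⟩⟩ : GrTwist.Loc (𝒮.deg U hU) y.1) •
              GrMod.val ((lam U hU).app W a) y := by
        intro a y
        rw [hT W a _ U hU, val_prodSect]
        refine congrArg (· • GrMod.val _ y) ?_
        refine (ProjX.val_lam_res (lam := lamL) _ W hW e U hU y.1 y.2).trans ?_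
        exact hev y.1 (hW y.2) (hWD y)
      constructor
      · intro a b hab
        refine (hF.bijective U hU W hWU).1 (GrModX.ext_val _ _ fun y => ?_)
        have h1 := hv a y
        rw [show T W a (AModX.res L hW e) = T W b (AModX.res L hW e) from hab, hv b y] at h1
        exact (GrTwistX.isUnit_frac χ ⟨y.1, hWD y⟩).smul_left_cancel.1 h1.symm
      · intro t
        let χ' : GrTwistX.UnitFrac (𝒜 := 𝒮.deg U hU) (-k) (j ⁻¹ᵁ W) :=
          { i := χ.j, j := χ.i, num := χ.den, den := χ.num, num_mem := χ.den_mem, den_mem := χ.num_mem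
            deg := by have := χ.deg; omega
            num_ne := fun y => χ.den_ne ⟨y.1, hWD y⟩
            den_ne := fun y => χ.num_ne ⟨y.1, hWD y⟩ }
        obtain ⟨a, ha⟩ := (hF.bijective U hU W hWU).2
          (prodSect (show -k + m = n by omega) (GrTwistX.fracSect χ') ((lam' U hU).app W t))
        refine ⟨a, (hF'.bijective U hU W hWU).1 (GrModX.ext_val _ _ fun y => ?_)⟩
        refine (hv a y).trans ?_
        rw [ha, val_prodSect, smul_smul]
        show (Localization.mk χ.num _ * Localization.mk χ.den _ : GrTwist.Loc (𝒮.deg U hU) y.1) • _ = _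
        rw [Localization.mk_mul]
        refine Eq.trans (congrArg (· • GrMod.val _ y) (?_ : (Localization.mk _ _ : GrTwist.Loc (𝒮.deg U hU) y.1) = 1)) (one_smul _ _)
        rw [← Localization.mk_one, Localization.mk_eq_mk_iff, Localization.r_iff_exists]
        exact ⟨1, by simp only [OneMemClass.coe_one, Submonoid.coe_mul]; ring⟩
    have h2 := FlatTwist.bijective_tmul_frame (M := F) he hW
    have h3 : ∀ a : Γ(F, W), Φ.app W (InvX.tmul a (AModX.res L hW e)) = T W a (AModX.res L hW e) :=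
      fun a => H23.TensorDesc.desc_tmul β W a (AModX.res L hW e)
    have h4 : (fun a : Γ(F, W) => T W a (AModX.res L hW e)) =
        (Φ.app W) ∘ fun a => InvX.tmul a (AModX.res L hW e) := funext fun a => (h3 a).symm
    rw [h4] at key
    exact (Function.Bijective.of_comp_iff (Φ.app W) h2).1 key
  exact ⟨(asIso Φ).symm⟩

end Groth.Agent.RelTildeX
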